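import Mathlib

/-!
Algebraically free composita of two extensions of a field.
-/

set_option autoImplicit false

universe u

namespace Groth.Agent.FreeComp

open Set

theorem indep_mono {R S A ι : Type u} [CommRing R] [CommRing S] [CommRing A] [Algebra R A] [Algebra S A]
    (hR : Function.Injective (algebraMap R A)) (hS : Function.Injective (algebraMap S A))
    (h : ∀ r, algebraMap R A r ∈ range (algebraMap S A)) {x : ι → A}
    (hx : AlgebraicIndependent S x) : AlgebraicIndependent R x := by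
  let e : R →+* S :=
    ((RingEquiv.ofBijective (algebraMap S A).rangeRestrict
      ⟨fun _ _ h => hS (congrArg Subtype.val h), (algebraMap S A).rangeRestrict_surjective⟩).symm.toRingHom).comp
      ((algebraMap R A).codRestrict (algebraMap S A).range h)
  have he : ∀ r, algebraMap S A (e r) = algebraMap R A r := fun r => by
    exact congrArg Subtype.val ((RingEquiv.ofBijective (algebraMap S A).rangeRestrict
      ⟨fun _ _ h => hS (congrArg Subtype.val h), (algebraMap S A).rangeRestrict_surjective⟩).apply_symm_apply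
      ⟨algebraMap R A r, h r⟩)
  letI := e.toAlgebra
  haveI : IsScalarTower R S A := .of_algebraMap_eq fun r => (he r).symm
  exact hx.restrictScalars (fun a b hab => hR (by rw [← he a, ← he b]; exact congrArg _ hab))

theorem indep_map {R A B ι : Type u} [Field R] [Field A] [Field B] [Algebra R A] [Algebra R B]
    [Algebra A B] [IsScalarTower R A B] {x : ι → A} (hx : AlgebraicIndependent R x) :
    AlgebraicIndependent R (algebraMap A B ∘ x) :=
  hx.map' (f := IsScalarTower.toAlgHom R A B) (algebraMap A B).injective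

/-- Everything algebraic over elements which become algebraic becomes algebraic. -/
theorem mem_of_isAlgebraic {k₀ L Ω E : Type u} [Field k₀] [Field L] [Field Ω] [Field E]
    [Algebra k₀ L] [Algebra E Ω] (τ : L →+* Ω) (s : Set L)
    [Algebra.IsAlgebraic (IntermediateField.adjoin k₀ s) L]
    (h₀ : ∀ c, IsAlgebraic E (τ (algebraMap k₀ L c))) (hs : ∀ a ∈ s, IsAlgebraic E (τ a)) (z : L) :
    IsAlgebraic E (τ z) := by
  let G := algebraicClosure E Ω
  have hadj : ∀ a ∈ IntermediateField.adjoin k₀ s, τ a ∈ G := by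
    let H : IntermediateField k₀ L :=
      (G.toSubfield.comap τ).toIntermediateField fun c => mem_algebraicClosure_iff.2 (h₀ c)
    intro a ha
    exact (show IntermediateField.adjoin k₀ s ≤ H from
      IntermediateField.adjoin_le_iff.2 fun b hb => mem_algebraicClosure_iff.2 (hs b hb)) ha
  let f : IntermediateField.adjoin k₀ s →+* G :=
    (τ.comp (IntermediateField.adjoin k₀ s).val.toRingHom).codRestrict G fun a => hadj a a.2
  have h1 : IsAlgebraic G (τ z) :=
    (Algebra.IsAlgebraic.isAlgebraic (R := IntermediateField.adjoin k₀ s) z).ringHom_of_comp_eq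
      f τ f.injective (RingHom.ext fun _ => rfl)
  haveI : Algebra.IsAlgebraic E G := algebraicClosure.isAlgebraic E Ω
  exact h1.restrictScalars E

variable {k K k₁ k₂ L₁ L₂ : Type u} [Field k] [Field K] [Field k₁] [Field k₂] [Field L₁] [Field L₂]
  [Algebra k K] [Algebra k k₁] [Algebra k k₂]
  [Algebra k L₁] [Algebra K L₁] [Algebra k₁ L₁] [IsScalarTower k K L₁] [IsScalarTower k k₁ L₁]
  [Algebra k L₂] [Algebra K L₂] [Algebra k₂ L₂] [IsScalarTower k K L₂] [IsScalarTower k k₂ L₂]

/-- Transcendence bases stay bases in a compositum with the same transcendence degree. -/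
theorem indep_compositum (r : ℕ) (hgen : IntermediateField.adjoin k₁ (range (algebraMap K L₁)) = ⊤)
    (hr : Algebra.trdeg k₁ L₁ = r) {ι : Type u} {t : ι → K} (ht : IsTranscendenceBasis k t)
    (hι : Cardinal.mk ι = r) : AlgebraicIndependent k₁ (algebraMap K L₁ ∘ t) := by
  let E := IntermediateField.adjoin k₁ (range (algebraMap K L₁ ∘ t))
  haveI := ht.isAlgebraic_field
  have hK : ∀ a : K, IsAlgebraic E (algebraMap K L₁ a) := fun a => by
    refine mem_of_isAlgebraic (k₀ := k) (algebraMap K L₁) (range t) (fun c => ?_) ?_ a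
    · rw [← IsScalarTower.algebraMap_apply, IsScalarTower.algebraMap_apply k k₁ L₁]
      exact isAlgebraic_algebraMap (⟨_, E.algebraMap_mem _⟩ : E)
    · rintro _ ⟨i, rfl⟩
      exact isAlgebraic_algebraMap (⟨_, IntermediateField.subset_adjoin _ _ ⟨i, rfl⟩⟩ : E)
  haveI : Algebra.IsAlgebraic (IntermediateField.adjoin k₁ (range (algebraMap K L₁))) L₁ := by
    rw [hgen]
    exact ⟨fun z => isAlgebraic_algebraMap (⟨z, trivial⟩ : (⊤ : IntermediateField k₁ L₁))⟩
  haveI hE : Algebra.IsAlgebraic E L₁ := ⟨fun z =>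
    mem_of_isAlgebraic (k₀ := k₁) (RingHom.id L₁) (range (algebraMap K L₁))
      (fun c => isAlgebraic_algebraMap (⟨_, E.algebraMap_mem c⟩ : E))
      (by rintro _ ⟨a, rfl⟩; exact hK a) z⟩
  haveI : Algebra.IsAlgebraic (Algebra.adjoin k₁ (range (algebraMap K L₁ ∘ t))) L₁ :=
    IntermediateField.isAlgebraic_adjoin_iff_top.1 hE
  refine (Algebra.IsAlgebraic.isTranscendenceBasis_of_le_trdeg k₁ _ ?_ ?_).1
  · rw [hr]; exact Cardinal.natCast_lt_aleph0
  · rw [hr, hι]

/-- There is a free compositum. -/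
theorem exists_free (r : ℕ) (hgen₁ : IntermediateField.adjoin k₁ (range (algebraMap K L₁)) = ⊤)
    (hgen₂ : IntermediateField.adjoin k₂ (range (algebraMap K L₂)) = ⊤)
    (hr : Algebra.trdeg k K = r) (hr₁ : Algebra.trdeg k₁ L₁ = r) (hr₂ : Algebra.trdeg k₂ L₂ = r) :
    ∃ (Ω : Type u) (_ : Field Ω) (τ₁ : L₁ →+* Ω) (τ₂ : L₂ →+* Ω),
      τ₁.comp (algebraMap K L₁) = τ₂.comp (algebraMap K L₂) ∧
      ∀ (N N' : Type u) [Field N] [Field N'] [Algebra N N'] (ρ : N' →+* Ω),
        (∀ x, (∃ c, τ₁ (algebraMap k₁ L₁ c) = x) ∨ (∃ c, τ₂ (algebraMap k₂ L₂ c) = x) →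
          x ∈ range (ρ.comp (algebraMap N N'))) →
        (range (ρ.comp (algebraMap N N')) ⊆
          Subfield.closure (range (τ₁.comp (algebraMap k₁ L₁)) ∪ range (τ₂.comp (algebraMap k₂ L₂)))) →
        range τ₁ ⊆ range ρ → range τ₂ ⊆ range ρ →
        (range ρ ⊆ Subfield.closure (range τ₁ ∪ range τ₂)) →
        Algebra.trdeg N N' = r := by
  obtain ⟨ι, t, ht⟩ := exists_isTranscendenceBasis' k K
  have hι : Cardinal.mk ι = r := ht.cardinalMk_eq_trdeg.trans hr
  obtain ⟨β, B, hB⟩ := exists_isTranscendenceBasis' k k₁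
  have ht₁ := indep_compositum (L₁ := L₁) r hgen₁ hr₁ ht hι
  have ht₂ := indep_compositum (k₁ := k₂) (L₁ := L₂) r hgen₂ hr₂ ht hι
  -- `B` is independent over `K` in `L₁`
  let B₁ : β → L₁ := algebraMap k₁ L₁ ∘ B
  have hB₁k : AlgebraicIndependent k B₁ := indep_map hB.1
  have hswap : AlgebraicIndependent k (Sum.elim B₁ (algebraMap K L₁ ∘ t)) := by
    have h : AlgebraicIndependent (Algebra.adjoin k (range B₁)) (algebraMap K L₁ ∘ t) := by
      refine indep_mono Subtype.val_injective (algebraMap k₁ L₁).injective ?_ ht₁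
      rintro ⟨y, hy⟩
      have hle : Algebra.adjoin k (range B₁) ≤ (IsScalarTower.toAlgHom k k₁ L₁).range :=
        Algebra.adjoin_le (by rintro _ ⟨i, rfl⟩; exact ⟨B i, rfl⟩)
      exact hle hy
    have h2 := (hB₁k.sumElim h).comp Sum.swap (Equiv.sumComm β ι).injective
    convert h2 using 1
    funext i; cases i <;> rfl
  have hB₁R := (AlgebraicIndependent.sumElim_iff.1 hswap).2
  have hB₁K : AlgebraicIndependent K B₁ := by
    let R := Algebra.adjoin k (range t)
    haveI : Algebra.IsAlgebraic R K := ht.isAlgebraic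
    refine AlgebraicIndependent.extendScalars K (R := R) (indep_mono ?_ Subtype.val_injective ?_ hB₁R)
    · exact (algebraMap K L₁).injective.comp Subtype.val_injective
    · rintro ⟨y, hy⟩
      have hle : Algebra.adjoin k (range t) ≤
          (Algebra.adjoin k (range (algebraMap K L₁ ∘ t))).comap (IsScalarTower.toAlgHom k K L₁) :=
        Algebra.adjoin_le (by rintro _ ⟨i, rfl⟩; exact Algebra.subset_adjoin ⟨i, rfl⟩)
      exact ⟨⟨_, hle hy⟩, rfl⟩
  -- the big field
  let P := FractionRing (MvPolynomial β L₂)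
  let Ω := AlgebraicClosure P
  let B₂ : β → Ω := fun i => algebraMap (MvPolynomial β L₂) Ω (MvPolynomial.X i)
  have hB₂L : AlgebraicIndependent L₂ B₂ :=
    (MvPolynomial.algebraicIndependent_X β L₂).map' (f := IsScalarTower.toAlgHom L₂ (MvPolynomial β L₂) Ω)
      (by
        show Function.Injective (algebraMap (MvPolynomial β L₂) Ω)
        rw [IsScalarTower.algebraMap_eq (MvPolynomial β L₂) P Ω]
        exact (algebraMap P Ω).injective.comp (IsFractionRing.injective _ P))
  let τ₂ : L₂ →+* Ω := algebraMap L₂ Ω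
  have hB₂K : AlgebraicIndependent K B₂ := hB₂L.restrictScalars (algebraMap K L₂).injective
  let P₁ := IntermediateField.adjoin K (range B₁)
  letI : Algebra P₁ Ω := ((IntermediateField.adjoin K (range B₂)).val.comp
    (hB₁K.aevalEquivField.symm.trans hB₂K.aevalEquivField).toAlgHom).toRingHom.toAlgebra
  haveI : IsScalarTower K P₁ Ω := .of_algebraMap_eq fun c =>
    (AlgHom.commutes ((IntermediateField.adjoin K (range B₂)).val.comp
      (hB₁K.aevalEquivField.symm.trans hB₂K.aevalEquivField).toAlgHom) c).symm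
  have hB₁B₂ : ∀ i, algebraMap P₁ Ω ⟨B₁ i, IntermediateField.subset_adjoin _ _ ⟨i, rfl⟩⟩ = B₂ i := fun i => by
    have e1 : hB₁K.aevalEquivField (algebraMap (MvPolynomial β K) _ (MvPolynomial.X i)) =
        ⟨B₁ i, IntermediateField.subset_adjoin _ _ ⟨i, rfl⟩⟩ := Subtype.ext (by simp)
    show ((hB₂K.aevalEquivField (hB₁K.aevalEquivField.symm _)) : Ω) = B₂ i
    rw [← e1, AlgEquiv.symm_apply_apply]
    simp
  haveI := hB.isAlgebraic_field
  haveI : Algebra.IsAlgebraic P₁ L₁ := by
    haveI : Algebra.IsAlgebraic (IntermediateField.adjoin k₁ (range (algebraMap K L₁))) L₁ := by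
      rw [hgen₁]
      exact ⟨fun z => isAlgebraic_algebraMap (⟨z, trivial⟩ : (⊤ : IntermediateField k₁ L₁))⟩
    refine ⟨fun z => mem_of_isAlgebraic (k₀ := k₁) (RingHom.id L₁) (range (algebraMap K L₁)) (fun c => ?_) ?_ z⟩
    · refine mem_of_isAlgebraic (k₀ := k) (algebraMap k₁ L₁) (range B) (fun a => ?_) ?_ c
      · rw [← IsScalarTower.algebraMap_apply, IsScalarTower.algebraMap_apply k K L₁]
        exact isAlgebraic_algebraMap (⟨_, P₁.algebraMap_mem _⟩ : P₁)
      · rintro _ ⟨i, rfl⟩
        exact isAlgebraic_algebraMap (⟨_, IntermediateField.subset_adjoin _ _ ⟨i, rfl⟩⟩ : P₁)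
    · rintro _ ⟨a, rfl⟩
      exact isAlgebraic_algebraMap (⟨_, P₁.algebraMap_mem a⟩ : P₁)
  let σ : L₁ →ₐ[P₁] Ω := IsAlgClosed.lift
  let τ₁ : L₁ →+* Ω := σ.toRingHom
  have hK : τ₁.comp (algebraMap K L₁) = τ₂.comp (algebraMap K L₂) := RingHom.ext fun a =>
    ((σ.restrictScalars K).commutes a).trans (IsScalarTower.algebraMap_apply K L₂ Ω a)
  have hσB : ∀ i, τ₁ (B₁ i) = B₂ i := fun i =>
    (σ.commutes ⟨B₁ i, IntermediateField.subset_adjoin _ _ ⟨i, rfl⟩⟩).trans (hB₁B₂ i)
  -- `t` is independent over `k₂(B)`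
  let t' : ι → Ω := algebraMap K Ω ∘ t
  have ht'k₂ : AlgebraicIndependent k₂ t' :=
    indep_map (R := k₂) (A := L₂) (B := Ω) ht₂
  have ht'B : AlgebraicIndependent (IntermediateField.adjoin k₂ (range B₂)) t' := by
    rw [IntermediateField.algebraicIndependent_adjoin_iff]
    have h : AlgebraicIndependent (Algebra.adjoin k₂ (range t')) B₂ := by
      refine indep_mono Subtype.val_injective τ₂.injective ?_ hB₂L
      rintro ⟨y, hy⟩
      have hle : Algebra.adjoin k₂ (range t') ≤ (IsScalarTower.toAlgHom k₂ L₂ Ω).range :=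
        Algebra.adjoin_le (by rintro _ ⟨i, rfl⟩; exact ⟨algebraMap K L₂ (t i), rfl⟩)
      exact hle hy
    have h2 := (ht'k₂.sumElim h).comp Sum.swap (Equiv.sumComm ι β).injective
    have h3 : AlgebraicIndependent k₂ (Sum.elim t' B₂) := by
      convert h2 using 1
      funext i; cases i <;> rfl
    exact (AlgebraicIndependent.sumElim_iff.1 h3).2
  refine ⟨Ω, inferInstance, τ₁, τ₂, hK, fun N N' _ _ _ ρ hN hN' h₁ h₂ hρ => ?_⟩
  -- the transcendence basis of `N'` over `N`
  have htρ : ∀ i, ∃ a, ρ a = t' i := fun i => h₂ ⟨algebraMap K L₂ (t i), rfl⟩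
  choose s hs using htρ
  letI : Algebra N' Ω := ρ.toAlgebra
  letI : Algebra N Ω := (ρ.comp (algebraMap N N')).toAlgebra
  haveI : IsScalarTower N N' Ω := .of_algebraMap_eq fun _ => rfl
  have hind : AlgebraicIndependent N s := by
    let G := algebraicClosure (IntermediateField.adjoin k₂ (range B₂)) Ω
    haveI : Algebra.IsAlgebraic (IntermediateField.adjoin k₂ (range B₂)) G :=
      algebraicClosure.isAlgebraic _ _
    have hG : AlgebraicIndependent G t' := AlgebraicIndependent.extendScalars G ht'B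
    refine AlgebraicIndependent.of_comp (IsScalarTower.toAlgHom N N' Ω) ?_
    rw [show ⇑(IsScalarTower.toAlgHom N N' Ω) ∘ s = t' from funext hs]
    refine indep_mono (algebraMap N Ω).injective Subtype.val_injective (fun n => ⟨⟨_, ?_⟩, rfl⟩) hG
    have hle : Subfield.closure (range (τ₁.comp (algebraMap k₁ L₁)) ∪ range (τ₂.comp (algebraMap k₂ L₂))) ≤
        G.toSubfield := by
      rw [Subfield.closure_le]
      rintro x (⟨c, rfl⟩ | ⟨c, rfl⟩)
      · refine mem_algebraicClosure_iff.2
          (mem_of_isAlgebraic (k₀ := k) (τ₁.comp (algebraMap k₁ L₁)) (range B) (fun a => ?_) ?_ c)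
        · rw [RingHom.comp_apply, ← IsScalarTower.algebraMap_apply, IsScalarTower.algebraMap_apply k K L₁,
            ← RingHom.comp_apply τ₁, hK, RingHom.comp_apply, ← IsScalarTower.algebraMap_apply k K L₂,
            IsScalarTower.algebraMap_apply k k₂ L₂]
          exact isAlgebraic_algebraMap
            (⟨_, (IntermediateField.adjoin k₂ (range B₂)).algebraMap_mem _⟩ : IntermediateField.adjoin k₂ (range B₂))
        · rintro _ ⟨i, rfl⟩
          rw [RingHom.comp_apply, show τ₁ (algebraMap k₁ L₁ (B i)) = B₂ i from hσB i]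
          exact isAlgebraic_algebraMap
            (⟨_, IntermediateField.subset_adjoin _ _ ⟨i, rfl⟩⟩ : IntermediateField.adjoin k₂ (range B₂))
      · exact mem_algebraicClosure_iff.2 (isAlgebraic_algebraMap
          (⟨_, (IntermediateField.adjoin k₂ (range B₂)).algebraMap_mem c⟩ : IntermediateField.adjoin k₂ (range B₂)))
    exact hle (hN' ⟨n, rfl⟩)
  let E := IntermediateField.adjoin N (range s)
  have halg : ∀ y, y ∈ Subfield.closure (range τ₁ ∪ range τ₂) → IsAlgebraic E y := by
    haveI := ht.isAlgebraic_field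
    have hK' : ∀ a, IsAlgebraic E (τ₂ (algebraMap K L₂ a)) := fun a => by
      refine mem_of_isAlgebraic (k₀ := k) (τ₂.comp (algebraMap K L₂)) (range t) (fun c => ?_) ?_ a
      · obtain ⟨n, hn⟩ := hN _ (Or.inr ⟨algebraMap k k₂ c, rfl⟩)
        rw [RingHom.comp_apply, ← IsScalarTower.algebraMap_apply k K L₂, IsScalarTower.algebraMap_apply k k₂ L₂, ← hn]
        exact isAlgebraic_algebraMap (⟨_, E.algebraMap_mem n⟩ : E)
      · rintro _ ⟨i, rfl⟩
        rw [show (τ₂.comp (algebraMap K L₂)) (t i) = ρ (s i) from (hs i).symm]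
        exact isAlgebraic_algebraMap (⟨_, IntermediateField.subset_adjoin _ _ ⟨i, rfl⟩⟩ : E)
    intro y hy
    refine mem_algebraicClosure_iff.1 ((Subfield.closure_le (t := (algebraicClosure E Ω).toSubfield)).2 ?_ hy)
    rintro x (⟨z, rfl⟩ | ⟨z, rfl⟩)
    · haveI : Algebra.IsAlgebraic (IntermediateField.adjoin k₁ (range (algebraMap K L₁))) L₁ := by
        rw [hgen₁]
        exact ⟨fun z => isAlgebraic_algebraMap (⟨z, trivial⟩ : (⊤ : IntermediateField k₁ L₁))⟩
      refine mem_algebraicClosure_iff.2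
        (mem_of_isAlgebraic (k₀ := k₁) τ₁ (range (algebraMap K L₁)) (fun c => ?_) ?_ z)
      · obtain ⟨n, hn⟩ := hN _ (Or.inl ⟨c, rfl⟩)
        rw [← hn]
        exact isAlgebraic_algebraMap (⟨_, E.algebraMap_mem n⟩ : E)
      · rintro _ ⟨a, rfl⟩
        rw [← RingHom.comp_apply τ₁, hK]
        exact hK' a
    · haveI : Algebra.IsAlgebraic (IntermediateField.adjoin k₂ (range (algebraMap K L₂))) L₂ := by
        rw [hgen₂]
        exact ⟨fun z => isAlgebraic_algebraMap (⟨z, trivial⟩ : (⊤ : IntermediateField k₂ L₂))⟩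
      refine mem_algebraicClosure_iff.2
        (mem_of_isAlgebraic (k₀ := k₂) τ₂ (range (algebraMap K L₂)) (fun c => ?_) ?_ z)
      · obtain ⟨n, hn⟩ := hN _ (Or.inr ⟨c, rfl⟩)
        rw [← hn]
        exact isAlgebraic_algebraMap (⟨_, E.algebraMap_mem n⟩ : E)
      · rintro _ ⟨a, rfl⟩
        exact hK' a
  haveI hE : Algebra.IsAlgebraic E N' := ⟨fun a =>
    (isAlgebraic_algHom_iff (IsScalarTower.toAlgHom E N' Ω) ρ.injective).1 (halg _ (hρ ⟨a, rfl⟩))⟩
  have hbasis : IsTranscendenceBasis N s :=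
    hind.isTranscendenceBasis_iff_isAlgebraic.2 (IntermediateField.isAlgebraic_adjoin_iff_top.1 hE)
  exact hbasis.cardinalMk_eq_trdeg.symm.trans hι

end Groth.Agent.FreeComp
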