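import Groth.Agent.FreeCompLib.Field
import Groth.Prelude.Def_Dual3

/-!
Points of fibre products with free residue fields.
-/

set_option autoImplicit false

universe u

open CategoryTheory CategoryTheory.Limits AlgebraicGeometry Set

namespace Groth.Agent.FreeComp

theorem point_apply {X : Scheme.{u}} {F : Type u} [Field F] {x : X} (a : X.residueField x ⟶ CommRingCat.of F)
    (z : Spec (CommRingCat.of F)) : (Spec.map a ≫ X.fromSpecResidueField x) z = x := by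
  rw [Scheme.Hom.comp_apply]
  exact Scheme.fromSpecResidueField_apply _ _

/-- A residue field embedding which factors through a field has smaller range. -/
theorem range_subset_of_factor {X : Scheme.{u}} {F C : Type u} [Field F] [Field C] {x : X}
    (a : X.residueField x →+* F) (j : C →+* F) (ν : Spec (CommRingCat.of C) ⟶ X)
    (h : Spec.map (CommRingCat.ofHom a) ≫ X.fromSpecResidueField x = Spec.map (CommRingCat.ofHom j) ≫ ν) :
    range a ⊆ range j := by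
  obtain ⟨⟨y, ρ⟩, rfl⟩ := (Scheme.SpecToEquivOfField C X).symm.surjective ν
  change _ = _ ≫ Spec.map ρ ≫ X.fromSpecResidueField y at h
  have hy : x = y := by
    have h1 := congrArg (fun m : Spec (CommRingCat.of F) ⟶ X => m (IsLocalRing.closedPoint F)) h
    rw [← Spec.map_comp_assoc] at h1
    exact (point_apply _ _).symm.trans (h1.trans (point_apply _ _))
  subst hy
  rw [← Spec.map_comp_assoc, cancel_mono, Spec.map_inj] at h
  rintro _ ⟨z, rfl⟩
  exact ⟨ρ.hom z, (ConcreteCategory.congr_hom h z).symm⟩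

theorem hom_eq_of_SpecMap_eq {X : Scheme.{u}} {F : CommRingCat.{u}} {x : X} (a b : X.residueField x ⟶ F)
    (h : Spec.map a ≫ X.fromSpecResidueField x = Spec.map b ≫ X.fromSpecResidueField x) : a = b := by
  rwa [cancel_mono, Spec.map_inj] at h

theorem adjoin_residueField_eq_top {X S S' X' : Scheme.{u}} {f : X ⟶ S} {g : S' ⟶ S} {f' : X' ⟶ S'}
    {g' : X' ⟶ X} (hX : IsPullback g' f' f g) (x' : X') {K : Type u} [Field K] (κ : Spec (CommRingCat.of K) ⟶ X)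
    (a : K →+* X'.residueField x') (ha : Spec.map (CommRingCat.ofHom a) ≫ κ = X'.fromSpecResidueField x' ≫ g') :
    letI := (f'.residueFieldMap x').hom.toAlgebra
    IntermediateField.adjoin (S'.residueField (f' x')) (range a) = ⊤ := by
  letI := (f'.residueFieldMap x').hom.toAlgebra
  let N := IntermediateField.adjoin (S'.residueField (f' x')) (range a)
  let j : N →+* X'.residueField x' := N.val.toRingHom
  let aK : K →+* N := a.codRestrict N fun z => IntermediateField.subset_adjoin _ _ ⟨z, rfl⟩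
  let a₁ : S'.residueField (f' x') →+* N :=
    (f'.residueFieldMap x').hom.codRestrict N fun z => N.algebraMap_mem z
  haveI : Mono (CommRingCat.ofHom j) :=
    ConcreteCategory.mono_of_injective (CommRingCat.ofHom j) j.injective
  have e1 : CommRingCat.ofHom aK ≫ CommRingCat.ofHom j = CommRingCat.ofHom a := rfl
  have e2 : CommRingCat.ofHom a₁ ≫ CommRingCat.ofHom j = f'.residueFieldMap x' := rfl
  have hc : (Spec.map (CommRingCat.ofHom aK) ≫ κ) ≫ f =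
      (Spec.map (CommRingCat.ofHom a₁) ≫ S'.fromSpecResidueField (f' x')) ≫ g := by
    obtain ⟨⟨y, ρ⟩, hy⟩ := (Scheme.SpecToEquivOfField N S).symm.surjective ((Spec.map (CommRingCat.ofHom aK) ≫ κ) ≫ f)
    obtain ⟨⟨z, σ⟩, hz⟩ := (Scheme.SpecToEquivOfField N S).symm.surjective
      ((Spec.map (CommRingCat.ofHom a₁) ≫ S'.fromSpecResidueField (f' x')) ≫ g)
    have h : Spec.map (CommRingCat.ofHom j) ≫ Spec.map ρ ≫ S.fromSpecResidueField y =
        Spec.map (CommRingCat.ofHom j) ≫ Spec.map σ ≫ S.fromSpecResidueField z := by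
      change Spec.map (CommRingCat.ofHom j) ≫ (Scheme.SpecToEquivOfField N S).symm ⟨y, ρ⟩ =
        Spec.map (CommRingCat.ofHom j) ≫ (Scheme.SpecToEquivOfField N S).symm ⟨z, σ⟩
      rw [hy, hz]
      simp only [← Spec.map_comp_assoc, Category.assoc, e1, e2,
        Scheme.Hom.SpecMap_residueFieldMap_fromSpecResidueField_assoc, reassoc_of% ha, hX.w]
    have hyz : y = z := by
      have h1 := congrArg (fun m : Spec (CommRingCat.of (X'.residueField x')) ⟶ S =>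
        m (IsLocalRing.closedPoint (X'.residueField x'))) h
      rw [← Spec.map_comp_assoc, ← Spec.map_comp_assoc] at h1
      exact (point_apply _ _).symm.trans (h1.trans (point_apply _ _))
    subst hyz
    rw [← hy, ← hz]
    rw [← Spec.map_comp_assoc, ← Spec.map_comp_assoc, cancel_mono, Spec.map_inj, cancel_mono] at h
    rw [h]
  let ν := hX.lift _ _ hc
  have hν : X'.fromSpecResidueField x' = Spec.map (CommRingCat.ofHom j) ≫ ν := by
    apply hX.hom_ext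
    · simp only [ν, Category.assoc, IsPullback.lift_fst, ← Spec.map_comp_assoc, e1, ha]
    · simp only [ν, Category.assoc, IsPullback.lift_snd, ← Spec.map_comp_assoc, e2,
        Scheme.Hom.SpecMap_residueFieldMap_fromSpecResidueField]
  refine eq_top_iff.2 fun z _ => ?_
  have h2 := range_subset_of_factor (RingHom.id (X'.residueField x')) j ν (by simpa using hν) ⟨z, rfl⟩
  obtain ⟨w, hw⟩ := h2
  rw [RingHom.id_apply] at hw
  exact hw ▸ w.2

theorem coe_inclusion {Ω : Type u} [Field Ω] {A B : Subfield Ω} (h : A ≤ B) (x : A) :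
    ((Subfield.inclusion h x : B) : Ω) = x := rfl

/-- The free compositum, with its subfields, in categorical form. -/
theorem exists_pack {k K k₁ k₂ L₁ L₂ : Type u} [Field k] [Field K] [Field k₁] [Field k₂] [Field L₁] [Field L₂]
    (ik : k →+* K) (a₁ : k →+* k₁) (a₂ : k →+* k₂) (b₁ : K →+* L₁) (b₂ : K →+* L₂)
    (c₁ : k₁ →+* L₁) (c₂ : k₂ →+* L₂) (sq₁ : c₁.comp a₁ = b₁.comp ik) (sq₂ : c₂.comp a₂ = b₂.comp ik)
    (r : ℕ) (hgen₁ : letI := c₁.toAlgebra; IntermediateField.adjoin k₁ (range b₁) = ⊤)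
    (hgen₂ : letI := c₂.toAlgebra; IntermediateField.adjoin k₂ (range b₂) = ⊤)
    (hr : letI := ik.toAlgebra; Algebra.trdeg k K = r)
    (hr₁ : letI := c₁.toAlgebra; Algebra.trdeg k₁ L₁ = r)
    (hr₂ : letI := c₂.toAlgebra; Algebra.trdeg k₂ L₂ = r) :
    ∃ (C : Type u) (_ : Field C) (M : Type u) (_ : Field M) (inc : M →+* C) (t₁ : L₁ →+* C) (t₂ : L₂ →+* C)
      (m₁ : k₁ →+* M) (m₂ : k₂ →+* M), t₁.comp b₁ = t₂.comp b₂ ∧ m₁.comp a₁ = m₂.comp a₂ ∧
      inc.comp m₁ = t₁.comp c₁ ∧ inc.comp m₂ = t₂.comp c₂ ∧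
      ∀ (N N' : Type u) [Field N] [Field N'] (i : N →+* N') (ρ : N' →+* C),
        range (inc.comp m₁) ⊆ range (ρ.comp i) → range (inc.comp m₂) ⊆ range (ρ.comp i) →
        range (ρ.comp i) ⊆ range inc → range t₁ ⊆ range ρ → range t₂ ⊆ range ρ →
        letI := i.toAlgebra; Algebra.trdeg N N' = r := by
  letI := ik.toAlgebra
  letI := a₁.toAlgebra
  letI := a₂.toAlgebra
  letI := (b₁.comp ik).toAlgebra
  letI := (b₂.comp ik).toAlgebra
  letI := b₁.toAlgebra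
  letI := b₂.toAlgebra
  letI := c₁.toAlgebra
  letI := c₂.toAlgebra
  haveI : IsScalarTower k K L₁ := .of_algebraMap_eq fun _ => rfl
  haveI : IsScalarTower k K L₂ := .of_algebraMap_eq fun _ => rfl
  haveI : IsScalarTower k k₁ L₁ := .of_algebraMap_eq fun c => (RingHom.congr_fun sq₁ c).symm
  haveI : IsScalarTower k k₂ L₂ := .of_algebraMap_eq fun c => (RingHom.congr_fun sq₂ c).symm
  obtain ⟨Ω, _, τ₁, τ₂, hτ, hfree⟩ :=
    exists_free (k := k) (K := K) (k₁ := k₁) (k₂ := k₂) (L₁ := L₁) (L₂ := L₂) r hgen₁ hgen₂ hr hr₁ hr₂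
  let M := Subfield.closure (range (τ₁.comp (algebraMap k₁ L₁)) ∪ range (τ₂.comp (algebraMap k₂ L₂)))
  let C := Subfield.closure (range τ₁ ∪ range τ₂)
  have hMC : M ≤ C := Subfield.closure_le.2 (by
    rintro z (⟨c, rfl⟩ | ⟨c, rfl⟩)
    · exact Subfield.subset_closure (Or.inl ⟨_, rfl⟩)
    · exact Subfield.subset_closure (Or.inr ⟨_, rfl⟩))
  let t₁ : L₁ →+* C := τ₁.codRestrict C fun c => Subfield.subset_closure (Or.inl ⟨c, rfl⟩)
  let t₂ : L₂ →+* C := τ₂.codRestrict C fun c => Subfield.subset_closure (Or.inr ⟨c, rfl⟩)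
  let m₁ : k₁ →+* M := (τ₁.comp c₁).codRestrict M fun c => Subfield.subset_closure (Or.inl ⟨c, rfl⟩)
  let m₂ : k₂ →+* M := (τ₂.comp c₂).codRestrict M fun c => Subfield.subset_closure (Or.inr ⟨c, rfl⟩)
  refine ⟨C, inferInstance, M, inferInstance, Subfield.inclusion hMC, t₁, t₂, m₁, m₂,
    RingHom.ext fun c => Subtype.ext (RingHom.congr_fun hτ c), RingHom.ext fun c => Subtype.ext ?_,
    rfl, rfl, fun N N' _ _ i ρ hm₁ hm₂ hN ht₁ ht₂ => ?_⟩
  · show τ₁ (c₁ (a₁ c)) = τ₂ (c₂ (a₂ c))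
    rw [← RingHom.comp_apply c₁, ← RingHom.comp_apply c₂, sq₁, sq₂]
    exact RingHom.congr_fun hτ (ik c)
  letI := i.toAlgebra
  refine hfree N N' (C.subtype.comp ρ) ?_ ?_ ?_ ?_ ?_
  · rintro z (⟨c, rfl⟩ | ⟨c, rfl⟩)
    · obtain ⟨n, hn⟩ := hm₁ ⟨c, rfl⟩; exact ⟨n, congrArg Subtype.val hn⟩
    · obtain ⟨n, hn⟩ := hm₂ ⟨c, rfl⟩; exact ⟨n, congrArg Subtype.val hn⟩
  · rintro _ ⟨n, rfl⟩
    obtain ⟨m, hm⟩ := hN ⟨n, rfl⟩
    have hv : (C.subtype.comp ρ).comp (algebraMap N N') n = (m : Ω) := by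
      rw [RingHom.comp_apply, RingHom.comp_apply, RingHom.algebraMap_toAlgebra, Subfield.subtype_apply]
      rw [RingHom.comp_apply] at hm
      rw [← hm]
      exact coe_inclusion hMC m
    rw [hv]
    exact SetLike.mem_coe.mpr m.2
  · rintro _ ⟨c, rfl⟩
    obtain ⟨n, hn⟩ := ht₁ ⟨c, rfl⟩; exact ⟨n, congrArg Subtype.val hn⟩
  · rintro _ ⟨c, rfl⟩
    obtain ⟨n, hn⟩ := ht₂ ⟨c, rfl⟩; exact ⟨n, congrArg Subtype.val hn⟩
  · rintro _ ⟨n, rfl⟩; exact (ρ n).2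

section Geom

variable {X S S' S'' X' X'' : Scheme.{u}} {f : X ⟶ S} {g : S' ⟶ S} {p q : S'' ⟶ S'}
  {f' : X' ⟶ S'} {g' : X' ⟶ X} {f'' : X'' ⟶ S''} {p' q' : X'' ⟶ X'}

/-- The morphisms attached to compatible field embeddings. -/
theorem exists_lifts_fields (hS : IsPullback p q g g) (hX : IsPullback g' f' f g) (hp : IsPullback p' f'' f' p)
    (hq : IsPullback q' f'' f' q) (hpq : p' ≫ g' = q' ≫ g')
    {k K k₁ k₂ L₁ L₂ M C : CommRingCat.{u}} (σ : Spec k ⟶ S) (ξ : Spec K ⟶ X)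
    (σ₁ : Spec k₁ ⟶ S') (σ₂ : Spec k₂ ⟶ S') (ξ₁ : Spec L₁ ⟶ X') (ξ₂ : Spec L₂ ⟶ X')
    (a₁ : k ⟶ k₁) (a₂ : k ⟶ k₂) (b₁ : K ⟶ L₁) (b₂ : K ⟶ L₂) (c₁ : k₁ ⟶ L₁) (c₂ : k₂ ⟶ L₂)
    (ha₁ : Spec.map a₁ ≫ σ = σ₁ ≫ g) (ha₂ : Spec.map a₂ ≫ σ = σ₂ ≫ g)
    (hb₁ : Spec.map b₁ ≫ ξ = ξ₁ ≫ g') (hb₂ : Spec.map b₂ ≫ ξ = ξ₂ ≫ g')
    (hc₁ : Spec.map c₁ ≫ σ₁ = ξ₁ ≫ f') (hc₂ : Spec.map c₂ ≫ σ₂ = ξ₂ ≫ f')
    (inc : M ⟶ C) (t₁ : L₁ ⟶ C) (t₂ : L₂ ⟶ C) (m₁ : k₁ ⟶ M) (m₂ : k₂ ⟶ M)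
    (hK : b₁ ≫ t₁ = b₂ ≫ t₂) (hk : a₁ ≫ m₁ = a₂ ≫ m₂) (h₁ : m₁ ≫ inc = c₁ ≫ t₁) (h₂ : m₂ ≫ inc = c₂ ≫ t₂) :
    ∃ (νM : Spec M ⟶ S'') (νC : Spec C ⟶ X''), νM ≫ p = Spec.map m₁ ≫ σ₁ ∧ νM ≫ q = Spec.map m₂ ≫ σ₂ ∧
      νC ≫ f'' = Spec.map inc ≫ νM ∧ νC ≫ p' = Spec.map t₁ ≫ ξ₁ ∧ νC ≫ q' = Spec.map t₂ ≫ ξ₂ := by
  let νM : Spec M ⟶ S'' := hS.lift (Spec.map m₁ ≫ σ₁) (Spec.map m₂ ≫ σ₂) (by
    rw [Category.assoc, Category.assoc, ← ha₁, ← ha₂, ← Spec.map_comp_assoc, ← Spec.map_comp_assoc, hk])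
  let νC : Spec C ⟶ X'' := hp.lift (Spec.map t₁ ≫ ξ₁) (Spec.map inc ≫ νM) (by
    simp only [Category.assoc, νM, IsPullback.lift_fst, ← Spec.map_comp_assoc, h₁, ← hc₁])
  refine ⟨νM, νC, hS.lift_fst _ _ _, hS.lift_snd _ _ _, hp.lift_snd _ _ _, hp.lift_fst _ _ _, ?_⟩
  apply hX.hom_ext
  · rw [Category.assoc, ← hpq, ← Category.assoc, hp.lift_fst, Category.assoc, Category.assoc, ← hb₁,
      ← hb₂, ← Spec.map_comp_assoc, ← Spec.map_comp_assoc, hK]
  · simp only [Category.assoc, hq.w, νC, IsPullback.lift_snd_assoc, νM, IsPullback.lift_snd,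
      ← Spec.map_comp_assoc, h₂, ← hc₂]

/-- The point of the lift has the expected transcendence degree. -/
theorem exists_point_of_lifts {x₁ x₂ : X'} {s₁ s₂ : S'} {M C : Type u} [Field M] [Field C] {r : ℕ}
    (inc : M →+* C) (t₁ : X'.residueField x₁ →+* C) (t₂ : X'.residueField x₂ →+* C)
    (m₁ : S'.residueField s₁ →+* M) (m₂ : S'.residueField s₂ →+* M)
    (νM : Spec (CommRingCat.of M) ⟶ S'') (νC : Spec (CommRingCat.of C) ⟶ X'')
    (h₁ : νM ≫ p = Spec.map (CommRingCat.ofHom m₁) ≫ S'.fromSpecResidueField s₁)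
    (h₂ : νM ≫ q = Spec.map (CommRingCat.ofHom m₂) ≫ S'.fromSpecResidueField s₂)
    (h₃ : νC ≫ f'' = Spec.map (CommRingCat.ofHom inc) ≫ νM)
    (h₄ : νC ≫ p' = Spec.map (CommRingCat.ofHom t₁) ≫ X'.fromSpecResidueField x₁)
    (h₅ : νC ≫ q' = Spec.map (CommRingCat.ofHom t₂) ≫ X'.fromSpecResidueField x₂)
    (hfree : ∀ (N N' : Type u) [Field N] [Field N'] (i : N →+* N') (ρ : N' →+* C),
        range (inc.comp m₁) ⊆ range (ρ.comp i) → range (inc.comp m₂) ⊆ range (ρ.comp i) →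
        range (ρ.comp i) ⊆ range inc → range t₁ ⊆ range ρ → range t₂ ⊆ range ρ →
        letI := i.toAlgebra; Algebra.trdeg N N' = r) :
    ∃ x'' : X'', Dual3.resTrdeg f'' x'' = r ∧ p' x'' = x₁ ∧ q' x'' = x₂ := by
  obtain ⟨⟨x'', ρC⟩, hρC⟩ := (Scheme.SpecToEquivOfField C X'').symm.surjective νC
  change Spec.map ρC ≫ X''.fromSpecResidueField x'' = νC at hρC
  have hpt : νC (IsLocalRing.closedPoint C) = x'' := by rw [← hρC]; exact point_apply _ _
  refine ⟨x'', ?_, ?_, ?_⟩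
  · let ρi : S''.residueField (f'' x'') →+* C := ρC.hom.comp (f''.residueFieldMap x'').hom
    have he : Spec.map (CommRingCat.ofHom ρi) ≫ S''.fromSpecResidueField (f'' x'') = νC ≫ f'' := by
      rw [show CommRingCat.ofHom ρi = f''.residueFieldMap x'' ≫ ρC from rfl, Spec.map_comp, Category.assoc,
        Scheme.Hom.SpecMap_residueFieldMap_fromSpecResidueField, reassoc_of% hρC]
    refine hfree _ _ (f''.residueFieldMap x'').hom ρC.hom ?_ ?_ ?_ ?_ ?_
    · refine range_subset_of_factor (inc.comp m₁) ρi (S''.fromSpecResidueField (f'' x'') ≫ p) ?_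
      rw [CommRingCat.ofHom_comp, Spec.map_comp, Category.assoc, ← h₁, reassoc_of% he, reassoc_of% h₃]
    · refine range_subset_of_factor (inc.comp m₂) ρi (S''.fromSpecResidueField (f'' x'') ≫ q) ?_
      rw [CommRingCat.ofHom_comp, Spec.map_comp, Category.assoc, ← h₂, reassoc_of% he, reassoc_of% h₃]
    · exact range_subset_of_factor ρi inc νM (he.trans h₃)
    · refine range_subset_of_factor t₁ ρC.hom (X''.fromSpecResidueField x'' ≫ p') ?_
      rw [← h₄, ← hρC, Category.assoc]; rfl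
    · refine range_subset_of_factor t₂ ρC.hom (X''.fromSpecResidueField x'' ≫ q') ?_
      rw [← h₅, ← hρC, Category.assoc]; rfl
  · rw [← hpt]
    exact (congrArg (fun t : Spec (CommRingCat.of C) ⟶ X' => t (IsLocalRing.closedPoint C)) h₄).trans (point_apply _ _)
  · rw [← hpt]
    exact (congrArg (fun t : Spec (CommRingCat.of C) ⟶ X' => t (IsLocalRing.closedPoint C)) h₅).trans (point_apply _ _)

end Geom

theorem exists_point {X S S' S'' X' X'' : Scheme.{u}}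
    (f : X ⟶ S) (r : ℕ) (g : S' ⟶ S)
    (p q : S'' ⟶ S') (hS : IsPullback p q g g)
    (f' : X' ⟶ S') (g' : X' ⟶ X) (hX : IsPullback g' f' f g)
    (f'' : X'' ⟶ S'') (p' q' : X'' ⟶ X') (hp : IsPullback p' f'' f' p) (hq : IsPullback q' f'' f' q)
    (hpq : p' ≫ g' = q' ≫ g')
    (x : X) (hx : Dual3.resTrdeg f x = r)
    (x₁ x₂ : X') (h₁ : g' x₁ = x) (h₂ : g' x₂ = x)
    (hx₁ : Dual3.resTrdeg f' x₁ = r) (hx₂ : Dual3.resTrdeg f' x₂ = r) :
    ∃ x'' : X'', Dual3.resTrdeg f'' x'' = r ∧ p' x'' = x₁ ∧ q' x'' = x₂ := by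
  subst h₁
  have hs₁ : f (g' x₁) = g (f' x₁) := by rw [← Scheme.Hom.comp_apply, ← Scheme.Hom.comp_apply, hX.w]
  have hs₂ : f (g' x₁) = g (f' x₂) := by
    rw [← h₂, ← Scheme.Hom.comp_apply, ← Scheme.Hom.comp_apply, hX.w]
  let ik := f.residueFieldMap (g' x₁)
  let a₁ := (S.residueFieldCongr hs₁).hom ≫ g.residueFieldMap (f' x₁)
  let a₂ := (S.residueFieldCongr hs₂).hom ≫ g.residueFieldMap (f' x₂)
  let b₁ := g'.residueFieldMap x₁
  let b₂ := (X.residueFieldCongr h₂.symm).hom ≫ g'.residueFieldMap x₂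
  have hb₁ : Spec.map b₁ ≫ X.fromSpecResidueField (g' x₁) = X'.fromSpecResidueField x₁ ≫ g' :=
    Scheme.Hom.SpecMap_residueFieldMap_fromSpecResidueField g' x₁
  have hb₂ : Spec.map b₂ ≫ X.fromSpecResidueField (g' x₁) = X'.fromSpecResidueField x₂ ≫ g' := by
    simp [b₂]
  have ha₁ : Spec.map a₁ ≫ S.fromSpecResidueField (f (g' x₁)) = S'.fromSpecResidueField (f' x₁) ≫ g := by
    simp [a₁]
  have ha₂ : Spec.map a₂ ≫ S.fromSpecResidueField (f (g' x₁)) = S'.fromSpecResidueField (f' x₂) ≫ g := by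
    simp [a₂]
  have sq₁ : a₁ ≫ f'.residueFieldMap x₁ = ik ≫ b₁ := by
    apply hom_eq_of_SpecMap_eq
    simp only [ik, Spec.map_comp, Category.assoc, ha₁,
      Scheme.Hom.SpecMap_residueFieldMap_fromSpecResidueField_assoc,
      Scheme.Hom.SpecMap_residueFieldMap_fromSpecResidueField, reassoc_of% hb₁, hX.w]
  have sq₂ : a₂ ≫ f'.residueFieldMap x₂ = ik ≫ b₂ := by
    apply hom_eq_of_SpecMap_eq
    simp only [ik, Spec.map_comp, Category.assoc, ha₂,
      Scheme.Hom.SpecMap_residueFieldMap_fromSpecResidueField_assoc,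
      Scheme.Hom.SpecMap_residueFieldMap_fromSpecResidueField, reassoc_of% hb₂, hX.w]
  have hgen₁ := adjoin_residueField_eq_top hX x₁ (X.fromSpecResidueField (g' x₁)) b₁.hom hb₁
  have hgen₂ := adjoin_residueField_eq_top hX x₂ (X.fromSpecResidueField (g' x₁)) b₂.hom hb₂
  obtain ⟨C, iC, M, iM, inc, t₁, t₂, m₁, m₂, hK, hk, hi₁, hi₂, hfree⟩ :=
    exists_pack ik.hom a₁.hom a₂.hom b₁.hom b₂.hom (f'.residueFieldMap x₁).hom (f'.residueFieldMap x₂).hom
      (congrArg CommRingCat.Hom.hom sq₁) (congrArg CommRingCat.Hom.hom sq₂) r hgen₁ hgen₂ hx hx₁ hx₂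
  obtain ⟨νM, νC, e₁, e₂, e₃, e₄, e₅⟩ := exists_lifts_fields hS hX hp hq hpq
    (S.fromSpecResidueField (f (g' x₁))) (X.fromSpecResidueField (g' x₁))
    (S'.fromSpecResidueField (f' x₁)) (S'.fromSpecResidueField (f' x₂))
    (X'.fromSpecResidueField x₁) (X'.fromSpecResidueField x₂)
    a₁ a₂ b₁ b₂ (f'.residueFieldMap x₁) (f'.residueFieldMap x₂) ha₁ ha₂ hb₁ hb₂
    (Scheme.Hom.SpecMap_residueFieldMap_fromSpecResidueField f' x₁)
    (Scheme.Hom.SpecMap_residueFieldMap_fromSpecResidueField f' x₂)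
    (CommRingCat.ofHom inc) (CommRingCat.ofHom t₁) (CommRingCat.ofHom t₂)
    (CommRingCat.ofHom m₁) (CommRingCat.ofHom m₂)
    (CommRingCat.hom_ext hK) (CommRingCat.hom_ext hk) (CommRingCat.hom_ext hi₁) (CommRingCat.hom_ext hi₂)
  exact exists_point_of_lifts inc t₁ t₂ m₁ m₂ νM νC e₁ e₂ e₃ e₄ e₅ hfree

end Groth.Agent.FreeComp
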